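import Groth.Agent.BigSiteLib.FppfDesc.Main
import Groth.Agent.SiteBase.LerayDegen
import Groth.Agent.SiteBase.DerivedComp
import Groth.Agent.SiteBase.SESResLib

/-!
# Etale and fppf cohomology of pulled back sheaves
-/

set_option autoImplicit false

universe u

open CategoryTheory CategoryTheory.Limits AlgebraicGeometry Opposite CategoryTheory.Abelian

namespace Groth.Agent.BigSiteLib.FppfDesc

set_option backward.isDefEq.respectTransparency.types false

variable (X : Scheme.{u}) [EtFppf.ACont X]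

/-- Restriction from the fppf site factors through the big etale site. -/
noncomputable def aPushIso : EtFppf.aPush X ≅ epsX X ⋙ BigSite.resEt Scheme.etalePrecoverage X :=
  NatIso.ofComponents (fun _ => Iso.refl _) (fun _ => (Category.comp_id _).trans (Category.id_comp _).symm)

theorem isIso_unit_aAdj (F : EtCoh.Ab X) : IsIso ((EtFppf.aAdj X).unit.app F) := by
  haveI := isIso_unit X F
  haveI : IsIso (aPullHom F) := (aPullIso F).isIso_hom
  have h : (EtFppf.aAdj X).unit.app F ≫ (EtFppf.aPush X).map (aPullHom F) =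
      ObjectProperty.homMk ((BigSite.piEtAdj Scheme.etalePrecoverage X).unit.app F).hom :=
    ObjectProperty.hom_ext _ (NatTrans.ext (funext fun V => res_aPullHom F V.unop))
  haveI : IsIso ((EtFppf.aAdj X).unit.app F ≫ (EtFppf.aPush X).map (aPullHom F)) := by rw [h]; exact isIso_unit X F
  exact IsIso.of_isIso_comp_right _ ((EtFppf.aPush X).map (aPullHom F))

theorem isZero_RaPush_aPull (F : EtCoh.Ab X) (q : ℕ) :
    IsZero ((EtFppf.RaPush X (q + 1)).obj ((EtFppf.aPull X).obj F)) := by
  have h : IsZero (((epsX X).rightDerived (q + 1)).obj ((EtFppf.aPull X).obj F)) :=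
    (isZero_rightDerived_piFppf (acy q X F)).of_iso (((epsX X).rightDerived (q + 1)).mapIso (aPullIso F))
  haveI : (BigSite.resEt Scheme.etalePrecoverage X).Additive := ⟨fun {_ _ _ _} => rfl⟩
  exact (Functor.map_isZero (BigSite.resEt Scheme.etalePrecoverage X) h).of_iso
    ((rightDerivedIso (aPushIso X) (q + 1)).app _ ≪≫
      (SiteBase.rightDerivedCompIso (epsX X) (BigSite.resEt Scheme.etalePrecoverage X) (q + 1)).app _)

theorem injective_aPush (I : EtFppf.AbF X) [Injective I] : Injective ((EtFppf.aPush X).obj I) := by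
  haveI := representablyFlat_a X
  haveI : PreservesFiniteLimits (EtFppf.aPull X) :=
    sheafPullback_preservesFiniteLimits (EtFppf.a X) X.smallEtaleTopology (EtFppf.J X)
  exact Injective.injective_of_adjoint (EtFppf.aAdj X) I

/-- Global sections of the restriction. -/
noncomputable def sectEquiv (G : EtFppf.AbF X) : EtCoh.H X ((EtFppf.aPush X).obj G) 0 ≃+ EtFppf.HF X G 0 :=
  (Sheaf.H.equiv₀ ((EtFppf.aPush X).obj G) (EtCore.topIsTerminal X)).trans
    ((G.obj.mapIso (Over.isoMk (Iso.refl _) rfl : (EtFppf.a X).obj (EtCoh.top X) ≅ Over.mk (𝟙 X)).symm.op).addCommGroupIsoToAddEquiv.trans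
      (Sheaf.H.equiv₀ G Over.mkIdTerminal).symm)

theorem sectEquiv_natural {G G' : EtFppf.AbF X} (φ : G ⟶ G') (y : EtFppf.HF X G 0) :
    (sectEquiv X G').symm (y.comp (Ext.mk₀ φ) (add_zero 0)) =
      ((sectEquiv X G).symm y).comp (Ext.mk₀ ((EtFppf.aPush X).map φ)) (add_zero 0) := by
  refine (sectEquiv X G').injective ?_
  rw [AddEquiv.apply_symm_apply]
  have h : ∀ z : EtCoh.H X ((EtFppf.aPush X).obj G) 0,
      sectEquiv X G' (z.comp (Ext.mk₀ ((EtFppf.aPush X).map φ)) (add_zero 0)) =
        (sectEquiv X G z).comp (Ext.mk₀ φ) (add_zero 0) := fun z => by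
    refine (congrArg (fun t => (Sheaf.H.equiv₀ G' Over.mkIdTerminal).symm
      ((G'.obj.mapIso (Over.isoMk (Iso.refl _) rfl : (EtFppf.a X).obj (EtCoh.top X) ≅ Over.mk (𝟙 X)).symm.op).addCommGroupIsoToAddEquiv t))
      (Sheaf.H.equiv₀_naturality (EtCore.topIsTerminal X) ((EtFppf.aPush X).map φ) z).symm).trans ?_
    refine Eq.trans ?_ (Sheaf.H.equiv₀_symm_naturality Over.mkIdTerminal φ _).symm
    exact congrArg _ (ConcreteCategory.congr_hom (φ.hom.naturality
      (Over.isoMk (Iso.refl _) rfl : (EtFppf.a X).obj (EtCoh.top X) ≅ Over.mk (𝟙 X)).symm.op.hom) _).symm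
  rw [h, AddEquiv.apply_symm_apply]

theorem H_iso (F : EtCoh.Ab X) (q : ℕ) :
    Nonempty (EtCoh.H X F q ≃+ EtFppf.HF X ((EtFppf.aPull X).obj F) q) := by
  haveI : (EtFppf.aPush X).IsRightAdjoint := (EtFppf.aAdj X).isRightAdjoint
  haveI : PreservesFiniteLimits (EtFppf.aPush X) := inferInstance
  haveI := isIso_unit_aAdj X F
  obtain ⟨e⟩ := LerayDegen.ext_equiv_of_rightDerived _ _ (EtFppf.aPush X) (fun I hI => @injective_aPush X _ I hI)
    (fun G => (sectEquiv X G).symm) (fun φ y => sectEquiv_natural X φ y) (SESResLib.derivedLES (EtFppf.aPush X))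
    ((EtFppf.aPull X).obj F) (isZero_RaPush_aPull X F) q
  exact ⟨((EtCoh.HF X q).mapIso (asIso ((EtFppf.aAdj X).unit.app F))).addCommGroupIsoToAddEquiv.trans e.symm⟩

end Groth.Agent.BigSiteLib.FppfDesc
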