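import Mathlib.CategoryTheory.Abelian.Injective.Resolution

/-!
# Comparison of an injective resolution with a partial resolution
-/

set_option autoImplicit false

universe v u

open CategoryTheory CategoryTheory.Limits

namespace Groth.Agent.BigSiteLib.FppfDesc

variable {C : Type u} [Category.{v} C] [Abelian C] {G M : C} (I : InjectiveResolution G) (J : InjectiveResolution M)
  (j : G ⟶ M) (φ : I.cocomplex ⟶ J.cocomplex) (hφ : I.ι.f 0 ≫ φ.f 0 = j ≫ J.ι.f 0)
  (K : CochainComplex C ℕ) (ι : M ⟶ K.X 0) (η : I.cocomplex ⟶ K) (hη : I.ι.f 0 ≫ η.f 0 = j ≫ ι)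
  (hιd : ι ≫ K.d 0 1 = 0)

include hφ hη hιd in
theorem exists_step [Mono ι] (h₀ : (ShortComplex.mk ι (K.d 0 1) hιd).Exact) (n : ℕ)
    (hK : ∀ m, m < n → (ShortComplex.mk (K.d m (m + 1)) (K.d (m + 1) (m + 2)) (K.d_comp_d _ _ _)).Exact) :
    ∃ (a : K.X n ⟶ J.cocomplex.X n) (b : K.X (n + 1) ⟶ J.cocomplex.X (n + 1))
      (g : I.cocomplex.X (n + 1) ⟶ J.cocomplex.X n),
      K.d n (n + 1) ≫ b = a ≫ J.cocomplex.d n (n + 1) ∧
        I.cocomplex.d n (n + 1) ≫ (φ.f (n + 1) - η.f (n + 1) ≫ b - g ≫ J.cocomplex.d n (n + 1)) = 0 := by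
  induction n with
  | zero =>
    haveI := J.injective 0
    haveI := J.injective 1
    let jι : M ⟶ J.cocomplex.X 0 := J.ι.f 0
    let a : K.X 0 ⟶ J.cocomplex.X 0 := Injective.factorThru jι ι
    have ha : ι ≫ a = J.ι.f 0 := Injective.comp_factorThru jι ι
    have hb0 : ι ≫ a ≫ J.cocomplex.d 0 1 = 0 := by
      rw [← Category.assoc, ha]; exact J.ι_f_zero_comp_complex_d
    let b := h₀.descToInjective (a ≫ J.cocomplex.d 0 1) hb0
    have hb : K.d 0 1 ≫ b = a ≫ J.cocomplex.d 0 1 := h₀.comp_descToInjective _ hb0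
    have hD : I.ι.f 0 ≫ (φ.f 0 - η.f 0 ≫ a) = 0 :=
      (Preadditive.comp_sub _ _ _).trans (sub_eq_zero.2 (hφ.trans
        ((congrArg (j ≫ ·) ha.symm).trans ((Category.assoc _ _ _).symm.trans
          ((congrArg (· ≫ a) hη.symm).trans (Category.assoc _ _ _))))))
    let g := I.exact₀.descToInjective (φ.f 0 - η.f 0 ≫ a) hD
    have hg : I.cocomplex.d 0 1 ≫ g = φ.f 0 - η.f 0 ≫ a := I.exact₀.comp_descToInjective _ hD
    refine ⟨a, b, g, hb, ?_⟩
    rw [Preadditive.comp_sub, Preadditive.comp_sub, ← φ.comm, ← Category.assoc, ← η.comm, Category.assoc, hb,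
      ← Category.assoc, ← Category.assoc, hg, Preadditive.sub_comp, sub_self]
  | succ n ih =>
    obtain ⟨a, b, g, hb, he⟩ := ih fun m hm => hK m (Nat.lt_succ_of_lt hm)
    haveI := J.injective (n + 1)
    haveI := J.injective (n + 2)
    let e := φ.f (n + 1) - η.f (n + 1) ≫ b - g ≫ J.cocomplex.d n (n + 1)
    have hb0 : K.d n (n + 1) ≫ b ≫ J.cocomplex.d (n + 1) (n + 2) = 0 := by
      rw [← Category.assoc, hb, Category.assoc, J.cocomplex.d_comp_d, comp_zero]
    let b' := (hK n n.lt_succ_self).descToInjective (b ≫ J.cocomplex.d (n + 1) (n + 2)) hb0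
    have hb' : K.d (n + 1) (n + 2) ≫ b' = b ≫ J.cocomplex.d (n + 1) (n + 2) :=
      (hK n n.lt_succ_self).comp_descToInjective _ hb0
    let g' := (I.exact_succ n).descToInjective e he
    have hg' : I.cocomplex.d (n + 1) (n + 2) ≫ g' = e := (I.exact_succ n).comp_descToInjective e he
    refine ⟨b, b', g', hb', ?_⟩
    rw [Preadditive.comp_sub, Preadditive.comp_sub, ← φ.comm, ← Category.assoc, ← η.comm, Category.assoc, hb',
      ← Category.assoc, ← Category.assoc, hg', Preadditive.sub_comp, Preadditive.sub_comp, Category.assoc,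
      Category.assoc, J.cocomplex.d_comp_d, comp_zero, sub_zero]
    exact sub_self _

include hφ hη hιd in
/-- A cocycle which becomes a coboundary in a partial resolution is a coboundary in the resolution of the target. -/
theorem exists_coboundary [Mono ι] (h₀ : (ShortComplex.mk ι (K.d 0 1) hιd).Exact) (n : ℕ)
    (hK : ∀ m, m < n → (ShortComplex.mk (K.d m (m + 1)) (K.d (m + 1) (m + 2)) (K.d_comp_d _ _ _)).Exact)
    {A : C} (s : A ⟶ I.cocomplex.X (n + 1)) (hs : s ≫ I.cocomplex.d (n + 1) (n + 2) = 0)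
    (t : A ⟶ K.X n) (ht : s ≫ η.f (n + 1) = t ≫ K.d n (n + 1)) :
    ∃ r : A ⟶ J.cocomplex.X n, s ≫ φ.f (n + 1) = r ≫ J.cocomplex.d n (n + 1) := by
  obtain ⟨a, b, g, hb, he⟩ := exists_step I J j φ hφ K ι η hη hιd h₀ n hK
  haveI := J.injective (n + 1)
  obtain ⟨e', he'⟩ : ∃ e', I.cocomplex.d (n + 1) (n + 2) ≫ e' =
      φ.f (n + 1) - η.f (n + 1) ≫ b - g ≫ J.cocomplex.d n (n + 1) :=
    ⟨_, (I.exact_succ n).comp_descToInjective _ he⟩
  refine ⟨t ≫ a + s ≫ g, ?_⟩
  have h : s ≫ (φ.f (n + 1) - η.f (n + 1) ≫ b - g ≫ J.cocomplex.d n (n + 1)) = 0 := by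
    rw [← he', ← Category.assoc, hs, zero_comp]
  rw [Preadditive.comp_sub, Preadditive.comp_sub, sub_sub, sub_eq_zero, ← Category.assoc, ht, Category.assoc, hb] at h
  rw [h, Preadditive.add_comp, Category.assoc, Category.assoc]

end Groth.Agent.BigSiteLib.FppfDesc
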