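import Mathlib.CategoryTheory.Sites.EpiMono
import Mathlib.CategoryTheory.Sites.Limits
import Mathlib.CategoryTheory.Sites.Abelian
import Mathlib.CategoryTheory.Sites.LocallyInjective
import Mathlib.CategoryTheory.Abelian.Exact
import Mathlib.Algebra.Homology.ShortComplex.Ab
import Mathlib.Algebra.Category.Grp.Abelian
import Mathlib.Algebra.Category.Grp.Limits

/-!
# Exactness of sequences of sheaves through local sections
-/

set_option autoImplicit false

universe v u

open CategoryTheory CategoryTheory.Limits Opposite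

namespace Groth.Agent.BigSiteLib.FppfDesc

variable {C : Type u} [Category.{v} C] {J : GrothendieckTopology C} [HasSheafify J AddCommGrpCat.{max u v}]
  [J.WEqualsLocallyBijective AddCommGrpCat.{max u v}]

/-- A section killed by a morphism comes from its kernel. -/
theorem exists_kernel_section {F G : Sheaf J AddCommGrpCat.{max u v}} (g : F ⟶ G) {U : C} (x : F.obj.obj (op U))
    (hx : g.hom.app (op U) x = 0) : ∃ c : (kernel g).obj.obj (op U), (kernel.ι g).hom.app (op U) c = x := by
  let Φ : Sheaf J AddCommGrpCat.{max u v} ⥤ AddCommGrpCat.{max u v} := sheafToPresheaf J _ ⋙ (evaluation _ _).obj (op U)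
  haveI : Φ.PreservesZeroMorphisms := { map_zero := fun _ _ => rfl }
  have h : ((ShortComplex.mk (kernel.ι g) g (kernel.condition g)).map Φ).Exact :=
    ShortComplex.exact_of_f_is_kernel _ (KernelFork.mapIsLimit _ (kernelIsKernel g) Φ)
  exact (ShortComplex.ab_exact_iff _).1 h x hx

theorem app_injective_of_mono {F G : Sheaf J AddCommGrpCat.{max u v}} (g : F ⟶ G) [Mono g] (U : C) :
    Function.Injective (g.hom.app (op U)) := by
  let Φ : Sheaf J AddCommGrpCat.{max u v} ⥤ AddCommGrpCat.{max u v} := sheafToPresheaf J _ ⋙ (evaluation _ _).obj (op U)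
  exact (AddCommGrpCat.mono_iff_injective _).1 (inferInstanceAs (Mono (Φ.map g)))

/-- In an exact sequence of sheaves, cycles are locally boundaries. -/
theorem locally_boundary {S : ShortComplex (Sheaf J AddCommGrpCat.{max u v})} (hS : S.Exact) {U : C}
    (x : S.X₂.obj.obj (op U)) (hx : S.g.hom.app (op U) x = 0) : Presheaf.imageSieve S.f.hom x ∈ J U := by
  obtain ⟨c, hc⟩ := exists_kernel_section S.g x hx
  haveI : Epi (kernel.lift S.g S.f S.zero) := (S.exact_iff_epi_kernel_lift).1 hS
  haveI := (Sheaf.isLocallySurjective_iff_epi' AddCommGrpCat.{max u v} (kernel.lift S.g S.f S.zero)).2 inferInstance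
  refine J.superset_covering ?_ (Presheaf.imageSieve_mem J (kernel.lift S.g S.f S.zero).hom c)
  rintro V k ⟨y, hy⟩
  refine ⟨y, ?_⟩
  rw [← hc]
  have h1 : S.f.hom.app (op V) y = (kernel.ι S.g).hom.app (op V) ((kernel.lift S.g S.f S.zero).hom.app (op V) y) :=
    (congrArg (fun t => t.hom.app (op V) y) (kernel.lift_ι S.g S.f S.zero).symm).trans (ConcreteCategory.comp_apply _ _ y)
  rw [h1, hy]
  exact ConcreteCategory.congr_hom ((kernel.ι S.g).hom.naturality k.op) c

/-- A sequence of sheaves is exact when cycles are locally boundaries. -/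
theorem exact_of_locally_boundary {S : ShortComplex (Sheaf J AddCommGrpCat.{max u v})}
    (h : ∀ (U : C) (x : S.X₂.obj.obj (op U)), S.g.hom.app (op U) x = 0 → Presheaf.imageSieve S.f.hom x ∈ J U) :
    S.Exact := by
  rw [S.exact_iff_epi_kernel_lift, ← Sheaf.isLocallySurjective_iff_epi' AddCommGrpCat.{max u v}]
  refine ⟨fun {U} c => ?_⟩
  have h0 : S.g.hom.app (op U) ((kernel.ι S.g).hom.app (op U) c) = 0 :=
    (ConcreteCategory.comp_apply _ _ c).symm.trans (congrArg (fun t => t.hom.app (op U) c) (kernel.condition S.g))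
  refine J.superset_covering ?_ (h U _ h0)
  rintro V k ⟨y, hy⟩
  refine ⟨y, app_injective_of_mono (kernel.ι S.g) V ?_⟩
  have h1 : S.f.hom.app (op V) y = (kernel.ι S.g).hom.app (op V) ((kernel.lift S.g S.f S.zero).hom.app (op V) y) :=
    (congrArg (fun t => t.hom.app (op V) y) (kernel.lift_ι S.g S.f S.zero).symm).trans (ConcreteCategory.comp_apply _ _ y)
  rw [← h1, hy]
  exact (ConcreteCategory.congr_hom ((kernel.ι S.g).hom.naturality k.op) c).symm

end Groth.Agent.BigSiteLib.FppfDesc
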