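import Groth.Agent.BigSiteLib.APull
import Groth.Agent.BigSiteLib.FinitePushIso
import Groth.Agent.TriCat.RightDerivedBridge
import Groth.Agent.BigSiteLib.FppfDesc.LocExact
import Mathlib.AlgebraicGeometry.Morphisms.UniversallyClosed

/-!
# Big fppf sheaves regarded as big etale sheaves
-/

set_option autoImplicit false

universe u

open CategoryTheory CategoryTheory.Limits AlgebraicGeometry Opposite

namespace Groth.Agent.BigSiteLib.FppfDesc

set_option backward.isDefEq.respectTransparency.types false

/-- Abelian sheaves on the big fppf site. -/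
abbrev AbFp (X : Scheme.{u}) := BigSite.Ab Scheme.fppfPrecoverage X

/-- An fppf sheaf as an etale sheaf. -/
noncomputable abbrev epsX (X : Scheme.{u}) : AbFp X ⥤ BigSite.Ab Scheme.etalePrecoverage X :=
  BigSite.eps Scheme.etalePrecoverage Scheme.fppfPrecoverage X AddCommGrpCat.{u + 1}

variable {X Y : Scheme.{u}}

instance eps_faithful : (epsX X).Faithful :=
  ⟨fun {F G a b} h => ObjectProperty.hom_ext _ (NatTrans.ext (funext fun V => congr(($h).hom.app V)))⟩

instance eps_full : (epsX X).Full :=
  ⟨fun {F G} a => ⟨ObjectProperty.homMk { app := fun V => a.hom.app V, naturality := fun _ _ k => a.hom.naturality k },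
    ObjectProperty.hom_ext _ (NatTrans.ext (funext fun _ => rfl))⟩⟩

instance eps_preservesFiniteLimits : PreservesFiniteLimits (epsX X) := by
  haveI : (epsX X).IsRightAdjoint :=
    (BigSite.epsAdj Scheme.etalePrecoverage Scheme.fppfPrecoverage X).isRightAdjoint
  infer_instance

theorem exact_of_eps {S : ShortComplex (AbFp X)} (h : (S.map (epsX X)).Exact) : S.Exact :=
  exact_of_locally_boundary fun U x hx =>
    BigSite.J_mono BigSite.etalePrecoverage_le_fppfPrecoverage X U (locally_boundary h x hx)

/-- The etale sheaf is a pullback from the small site. -/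
abbrev InPi (A : BigSite.Ab Scheme.etalePrecoverage X) : Prop :=
  IsIso ((BigSite.piEtAdj Scheme.etalePrecoverage X).counit.app A)

theorem inPi_pi (F : EtCoh.Ab X) : InPi ((BigSite.piEtPull Scheme.etalePrecoverage X).obj F) := by
  haveI := isIso_unit X F
  exact IsIso.of_isIso_fac_left ((BigSite.piEtAdj Scheme.etalePrecoverage X).left_triangle_components F)

theorem inPi_of_iso {A B : BigSite.Ab Scheme.etalePrecoverage X} (e : A ≅ B) (h : InPi A) : InPi B := by
  haveI : IsIso ((BigSite.piEtAdj Scheme.etalePrecoverage X).counit.app A) := h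
  have hn := (BigSite.piEtAdj Scheme.etalePrecoverage X).counit.naturality e.hom
  exact IsIso.of_isIso_fac_left (hn : _ = _ ≫ e.hom)

theorem inPi_cokernel {A B : BigSite.Ab Scheme.etalePrecoverage X} (a : A ⟶ B) (hA : InPi A) (hB : InPi B) :
    InPi (cokernel a) := by
  let c := (BigSite.piEtAdj Scheme.etalePrecoverage X).counit
  haveI : IsIso (c.app A) := hA
  haveI : IsIso (c.app B) := hB
  let L := BigSite.resEt Scheme.etalePrecoverage X ⋙ BigSite.piEtPull Scheme.etalePrecoverage X
  haveI : (BigSite.piEtPull Scheme.etalePrecoverage X).IsLeftAdjoint := (BigSite.piEtAdj Scheme.etalePrecoverage X).isLeftAdjoint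
  haveI : PreservesFiniteColimits L := comp_preservesFiniteColimits _ _
  haveI : L.PreservesZeroMorphisms := inferInstance
  have h : IsColimit (CokernelCofork.ofπ (L.map (cokernel.π a))
      (show L.map a ≫ L.map (cokernel.π a) = 0 by rw [← L.map_comp, cokernel.condition, L.map_zero])) :=
    CokernelCofork.mapIsColimit _ (cokernelIsCokernel a) L
  have h0 : a ≫ inv (c.app B) ≫ L.map (cokernel.π a) = 0 := by
    have hn : L.map a ≫ c.app B = c.app A ≫ a := c.naturality a
    have : a ≫ inv (c.app B) = inv (c.app A) ≫ L.map a := by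
      rw [IsIso.eq_inv_comp, ← Category.assoc, ← hn, Category.assoc, IsIso.hom_inv_id, Category.comp_id]
    rw [← Category.assoc, this, Category.assoc, ← L.map_comp, cokernel.condition, L.map_zero, comp_zero]
  have hnπ : L.map (cokernel.π a) ≫ c.app (cokernel a) = c.app B ≫ cokernel.π a := c.naturality (cokernel.π a)
  refine ⟨cokernel.desc a _ h0, ?_, ?_⟩
  · refine Cofork.IsColimit.hom_ext h ?_
    show L.map (cokernel.π a) ≫ c.app (cokernel a) ≫ cokernel.desc a _ h0 = L.map (cokernel.π a) ≫ 𝟙 _
    rw [← Category.assoc, hnπ, Category.assoc, cokernel.π_desc, IsIso.hom_inv_id_assoc, Category.comp_id]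
  · refine coequalizer.hom_ext ?_
    show cokernel.π a ≫ cokernel.desc a _ h0 ≫ c.app (cokernel a) = cokernel.π a ≫ 𝟙 _
    rw [cokernel.π_desc_assoc, Category.assoc]
    erw [hnπ]
    rw [IsIso.inv_hom_id_assoc, Category.comp_id]

/-- An etale sheaf pulled back from the small site is an fppf sheaf. -/
noncomputable def ofInPi {A : BigSite.Ab Scheme.etalePrecoverage X} (h : InPi A) : AbFp X :=
  ⟨A.obj, haveI : IsIso ((BigSite.piEtAdj Scheme.etalePrecoverage X).counit.app A) := h
    (Presheaf.isSheaf_of_iso_iff ((sheafToPresheaf _ _).mapIso (asIso ((BigSite.piEtAdj Scheme.etalePrecoverage X).counit.app A)))).1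
      (isSheaf_fppf_piPull ((BigSite.resEt Scheme.etalePrecoverage X).obj A))⟩

/-- An fppf sheaf whose etale sheaf is pulled back from the small site. -/
noncomputable def isoPiFppf {G : AbFp X} (F : EtCoh.Ab X)
    (e : (BigSite.piEtPull Scheme.etalePrecoverage X).obj F ≅ (epsX X).obj G) : piFppf F ≅ G :=
  (fullyFaithfulSheafToPresheaf _ _).preimageIso
    (show (piFppf F).obj ≅ G.obj from (sheafToPresheaf (QuotSh.J Scheme.etalePrecoverage X) _).mapIso e)

variable (p : Y ⟶ X) [IsFinite p]

theorem epi_map_pushBig {A B : BigSite.Ab Scheme.etalePrecoverage Y} (g : A ⟶ B) [Epi g] :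
    Epi ((BigSite.pushBig Scheme.etalePrecoverage p AddCommGrpCat.{u + 1}).map g) := by
  let F := BigSite.pushBig Scheme.etalePrecoverage p AddCommGrpCat.{u + 1}
  haveI : F.IsRightAdjoint := (BigSite.bigAdj Scheme.etalePrecoverage p AddCommGrpCat.{u + 1}).isRightAdjoint
  have hS : (ShortComplex.mk (kernel.ι g) g (kernel.condition g)).ShortExact :=
    ShortComplex.ShortExact.mk' (ShortComplex.exact_of_f_is_kernel _ (kernelIsKernel g)) inferInstance inferInstance
  letI := HasDerivedCategory.standard (BigSite.Ab Scheme.etalePrecoverage Y)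
  letI := HasDerivedCategory.standard (BigSite.Ab Scheme.etalePrecoverage X)
  obtain ⟨δ, w₁, w₂, w₃, -, h₂, -⟩ := TriCat.exists_rightDerived_ses F hS 0
  have h0 : IsZero ((F.rightDerived 1).obj (kernel g)) := isZero_of_resEtAlong _ fun {X'} k => by
    have hsq := IsPullback.of_hasPullback p k
    haveI : IsFinite (pullback.snd p k) := MorphismProperty.of_isPullback hsq ‹IsFinite p›
    exact (Groth.Agent.S0071.result (pullback.snd p k) _ 1 Nat.one_pos).of_iso ((resAlongRpushIso p hsq 1).app _)
  haveI : Epi ((F.rightDerived 0).map g) := h₂.epi_f (h0.eq_of_tgt _ _)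
  have hn : (F.rightDerived 0).map g ≫ F.rightDerivedZeroIsoSelf.hom.app B = F.rightDerivedZeroIsoSelf.hom.app A ≫ F.map g :=
    F.rightDerivedZeroIsoSelf.hom.naturality g
  haveI : Epi (F.rightDerivedZeroIsoSelf.hom.app A ≫ F.map g) := hn ▸ inferInstance
  exact epi_of_epi (F.rightDerivedZeroIsoSelf.hom.app A) (F.map g)

theorem exact_map_pushBig {S : ShortComplex (BigSite.Ab Scheme.etalePrecoverage Y)} (hS : S.Exact) :
    (S.map (BigSite.pushBig Scheme.etalePrecoverage p AddCommGrpCat.{u + 1})).Exact := by
  let F := BigSite.pushBig Scheme.etalePrecoverage p AddCommGrpCat.{u + 1}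
  haveI : F.IsRightAdjoint := (BigSite.bigAdj Scheme.etalePrecoverage p AddCommGrpCat.{u + 1}).isRightAdjoint
  haveI : F.PreservesEpimorphisms := ⟨fun g _ => epi_map_pushBig p g⟩
  haveI : F.PreservesHomology := F.preservesHomology_of_preservesEpis_and_kernels
  exact hS.map F

variable [Surjective p] (F : EtCoh.Ab X)

theorem mono_unit_piPull : Mono ((BigSite.bigAdj Scheme.etalePrecoverage p AddCommGrpCat.{u + 1}).unit.app
    ((BigSite.piEtPull Scheme.etalePrecoverage X).obj F)) := by
  refine (sheafToPresheaf _ _).mono_of_mono_map ?_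
  have : ∀ W, Mono (((BigSite.bigAdj Scheme.etalePrecoverage p AddCommGrpCat.{u + 1}).unit.app
      ((BigSite.piEtPull Scheme.etalePrecoverage X).obj F)).hom.app W) := fun W => by
    refine (AddCommGrpCat.mono_iff_injective _).2 fun a b h => ?_
    haveI : Surjective (pullback.fst W.unop.hom p) := MorphismProperty.pullback_fst (P := @Surjective) _ _ ‹Surjective p›
    exact EtInd.ext_fam (etInduced_piP F) (I := PUnit.{1})
      (T := fun _ => (Over.map p).obj ((Over.pullback p).obj W.unop))
      (fun _ => (Over.mapPullbackAdj p).counit.app W.unop)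
      (fun y => ⟨PUnit.unit, (pullback.fst W.unop.hom p).surjective y⟩) fun _ => h
  exact @NatTrans.mono_of_mono_app _ _ _ _ _ _ _ this

theorem inPi_push_pull : InPi ((BigSite.pushBig Scheme.etalePrecoverage p AddCommGrpCat.{u + 1}).obj
    ((BigSite.pullBig Scheme.etalePrecoverage p AddCommGrpCat.{u + 1}).obj ((BigSite.piEtPull Scheme.etalePrecoverage X).obj F))) := by
  haveI := isIso_theta p ((EtCoh.pull p).obj F)
  exact inPi_of_iso (asIso (theta p ((EtCoh.pull p).obj F)) ≪≫
    (BigSite.pushBig Scheme.etalePrecoverage p AddCommGrpCat.{u + 1}).mapIso ((piPullIso p).app F)) (inPi_pi _)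

omit [IsFinite p] [Surjective p] in
/-- Restriction of a pulled back fppf sheaf. -/
noncomputable def piFppfPullIso : piFppf ((EtCoh.pull p).obj F) ≅
    (BigSite.pullBig Scheme.fppfPrecoverage p AddCommGrpCat.{u + 1}).obj (piFppf F) :=
  (fullyFaithfulSheafToPresheaf _ _).preimageIso
    (show (piFppf ((EtCoh.pull p).obj F)).obj ≅ _ from (sheafToPresheaf (QuotSh.J Scheme.etalePrecoverage Y) _).mapIso ((piPullIso p).app F))

end Groth.Agent.BigSiteLib.FppfDesc
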