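import Groth.Agent.BigSiteLib.FppfDesc.Main

/-!
# Finite direct images commute with pullback to the big fppf site
-/

set_option autoImplicit false

universe u

open CategoryTheory CategoryTheory.Limits AlgebraicGeometry Opposite

namespace Groth.Agent.BigSiteLib.FppfDesc

set_option backward.isDefEq.respectTransparency.types false

variable {X Y : Scheme.{u}} (f : X ⟶ Y) [IsFinite f] [EtFppf.ACont X] [EtFppf.ACont Y] (F : EtCoh.Ab X)

theorem aPull_Rpush_iso (i : ℕ) :
    Nonempty ((EtFppf.aPull Y).obj ((EtCoh.Rpush f i).obj F) ≅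
      (EtFppf.RpushBig f i).obj ((EtFppf.aPull X).obj F)) := by
  haveI : (EtCoh.push f).IsRightAdjoint := (EtCoh.pullPushAdj f).isRightAdjoint
  haveI : (EtFppf.pushBig f).IsRightAdjoint :=
    (BigSite.bigAdj Scheme.fppfPrecoverage f AddCommGrpCat.{u + 1}).isRightAdjoint
  rcases i with _ | m
  · haveI := isIso_theta f F
    let e : piFppf ((EtCoh.push f).obj F) ≅ (EtFppf.pushBig f).obj (piFppf F) :=
      (fullyFaithfulSheafToPresheaf _ _).preimageIso
        (show (piFppf ((EtCoh.push f).obj F)).obj ≅ _ from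
          (sheafToPresheaf (QuotSh.J Scheme.etalePrecoverage Y) _).mapIso (asIso (theta f F)))
    exact ⟨(EtFppf.aPull Y).mapIso ((EtCoh.push f).rightDerivedZeroIsoSelf.app F) ≪≫ aPullIso _ ≪≫ e ≪≫
      (EtFppf.pushBig f).mapIso (aPullIso F).symm ≪≫ ((EtFppf.pushBig f).rightDerivedZeroIsoSelf.app _).symm⟩
  · haveI : (EtFppf.aPull Y).Additive := (EtFppf.aAdj Y).left_adjoint_additive
    refine ⟨((EtFppf.aPull Y).map_isZero (Groth.Agent.S0071.result f F (m + 1) m.succ_pos)).iso ?_⟩
    let I := injectiveResolution (piFppf F)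
    let P := BigSite.pushBig Scheme.fppfPrecoverage f AddCommGrpCat.{u + 1}
    have h : ((scAt I.cocomplex m).map P).Exact := by
      refine exact_of_eps ?_
      have h := exact_map_pushBig f (acy m X F I)
      exact h
    have h0 : IsZero ((P.rightDerived (m + 1)).obj (piFppf F)) :=
      ((HomologicalComplex.exactAt_iff_isZero_homology _ _).1
        (exactAt_of_scAt ((P.mapHomologicalComplex _).obj I.cocomplex) m h)).of_iso (I.isoRightDerivedObj P (m + 1))
    exact h0.of_iso (((EtFppf.RpushBig f (m + 1))).mapIso (aPullIso F))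

end Groth.Agent.BigSiteLib.FppfDesc
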