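import Groth.Agent.BigSiteLib.FppfDesc.Eps
import Groth.Agent.BigSiteLib.FppfDesc.Approx
import Groth.Agent.BigSiteLib.FppfDesc.Refine
import Groth.Agent.SiteBase.DerivedPrecomp
import Mathlib.Algebra.Homology.Refinements

/-!
# Cohomological descent from the big fppf site to the big etale site
-/

set_option autoImplicit false

universe u

open CategoryTheory CategoryTheory.Limits AlgebraicGeometry Opposite

namespace Groth.Agent.BigSiteLib.FppfDesc

set_option backward.isDefEq.respectTransparency.types false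

variable {X : Scheme.{u}}

/-- A piece of a complex. -/
abbrev scAt {C : Type*} [Category C] [Preadditive C] (K : CochainComplex C ℕ) (m : ℕ) : ShortComplex C :=
  ShortComplex.mk (K.d m (m + 1)) (K.d (m + 1) (m + 2)) (K.d_comp_d _ _ _)

/-- The pullback of a small sheaf has no higher direct images in degree `m + 1`. -/
def Acy (m : ℕ) (X : Scheme.{u}) (F : EtCoh.Ab X) : Prop :=
  ∀ I : InjectiveResolution (piFppf F), ((scAt I.cocomplex m).map (epsX X)).Exact

theorem exactAt_of_scAt {C : Type*} [Category C] [Abelian C] (K : CochainComplex C ℕ) (m : ℕ)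
    (h : (scAt K m).Exact) : K.ExactAt (m + 1) :=
  (K.exactAt_iff' m (m + 1) (m + 2) (by simp) (by simp)).2 h

theorem scAt_of_exactAt {C : Type*} [Category C] [Abelian C] (K : CochainComplex C ℕ) (m : ℕ)
    (h : K.ExactAt (m + 1)) : (scAt K m).Exact :=
  (K.exactAt_iff' m (m + 1) (m + 2) (by simp) (by simp)).1 h

theorem isZero_rightDerived_piFppf {m : ℕ} {F : EtCoh.Ab X} (h : Acy m X F) :
    IsZero (((epsX X).rightDerived (m + 1)).obj (piFppf F)) := by
  let I := injectiveResolution (piFppf F)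
  refine IsZero.of_iso ?_ (I.isoRightDerivedObj (epsX X) (m + 1))
  exact (HomologicalComplex.exactAt_iff_isZero_homology _ _).1
    (exactAt_of_scAt (((epsX X).mapHomologicalComplex _).obj I.cocomplex) m (h I))

/-- An injective resolution transported along an isomorphism. -/
noncomputable def transportRes {C : Type*} [Category C] [Abelian C] {A B : C} (e : A ≅ B)
    (I : InjectiveResolution B) : InjectiveResolution A where
  cocomplex := I.cocomplex
  injective := I.injective
  ι := (CochainComplex.single₀ C).map e.hom ≫ I.ι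
  quasiIso := inferInstance

/-- The resolution of a restricted pulled back sheaf. -/
noncomputable def pullRes {Y : Scheme.{u}} (p : Y ⟶ X) {F : EtCoh.Ab X} (I : InjectiveResolution (piFppf F)) :
    InjectiveResolution (piFppf ((EtCoh.pull p).obj F)) :=
  transportRes (piFppfPullIso p F) (SiteBase.mapResolution (BigSite.pullBig Scheme.fppfPrecoverage p AddCommGrpCat.{u + 1}) I)

theorem exists_short {Y : Scheme.{u}} (p : Y ⟶ X) [IsFinite p] [Surjective p] (F : EtCoh.Ab X) :
    ∃ (S : ShortComplex (AbFp X)) (F₁ : EtCoh.Ab X) (e₁ : S.X₁ ≅ piFppf F) (e₂ : S.X₂ ≅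
      (BigSite.pushBig Scheme.fppfPrecoverage p AddCommGrpCat.{u + 1}).obj
        ((BigSite.pullBig Scheme.fppfPrecoverage p AddCommGrpCat.{u + 1}).obj (piFppf F))) (_ : piFppf F₁ ≅ S.X₃),
      S.ShortExact ∧ Epi ((epsX X).map S.g) ∧
        S.f = e₁.hom ≫ (BigSite.bigAdj Scheme.fppfPrecoverage p AddCommGrpCat.{u + 1}).unit.app (piFppf F) ≫ e₂.inv := by
  let M := (BigSite.pushBig Scheme.fppfPrecoverage p AddCommGrpCat.{u + 1}).obj
        ((BigSite.pullBig Scheme.fppfPrecoverage p AddCommGrpCat.{u + 1}).obj (piFppf F))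
  let j : piFppf F ⟶ M := (BigSite.bigAdj Scheme.fppfPrecoverage p AddCommGrpCat.{u + 1}).unit.app (piFppf F)
  haveI : Mono ((epsX X).map j) := mono_unit_piPull p F
  haveI : Mono j := (epsX X).mono_of_mono_map inferInstance
  have hA : InPi ((epsX X).obj (piFppf F)) := inPi_pi F
  have hB : InPi ((epsX X).obj M) := inPi_push_pull p F
  have hK := inPi_cokernel ((epsX X).map j) hA hB
  let H := ofInPi hK
  let g : M ⟶ H := (epsX X).preimage (show (epsX X).obj M ⟶ (epsX X).obj H from cokernel.π ((epsX X).map j))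
  have hg : (epsX X).map g = cokernel.π ((epsX X).map j) := (epsX X).map_preimage _
  have w : j ≫ g = 0 := (epsX X).map_injective (by
    rw [Functor.map_comp, hg, Functor.map_zero]; exact cokernel.condition _)
  haveI : Epi ((epsX X).map g) := by rw [hg]; exact (inferInstance : Epi (cokernel.π ((epsX X).map j)))
  haveI : Epi g := (epsX X).epi_of_epi_map inferInstance
  have hex : ((ShortComplex.mk j g w).map (epsX X)).Exact := by
    refine ShortComplex.exact_of_g_is_cokernel _ (IsColimit.ofIsoColimit (cokernelIsCokernel ((epsX X).map j)) ?_)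
    exact Cofork.ext (Iso.refl _) ((Category.comp_id _).trans hg.symm)
  haveI : IsIso ((BigSite.piEtAdj Scheme.etalePrecoverage X).counit.app (cokernel ((epsX X).map j))) := hK
  exact ⟨ShortComplex.mk j g w, _, Iso.refl _, Iso.refl _,
    isoPiFppf ((BigSite.resEt Scheme.etalePrecoverage X).obj (cokernel ((epsX X).map j)))
      (@asIso _ _ _ _ ((BigSite.piEtAdj Scheme.etalePrecoverage X).counit.app (cokernel ((epsX X).map j))) hK),
    ShortComplex.ShortExact.mk' (exact_of_eps hex) inferInstance inferInstance, inferInstance, by simp [j, M]⟩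

theorem mono_rightDerived_unit {Y : Scheme.{u}} (p : Y ⟶ X) [IsFinite p] [Surjective p] (F : EtCoh.Ab X) (m : ℕ)
    (ih : ∀ k < m, ∀ F₁ : EtCoh.Ab X, Acy k X F₁) :
    Mono (((epsX X).rightDerived (m + 1)).map
      ((BigSite.bigAdj Scheme.fppfPrecoverage p AddCommGrpCat.{u + 1}).unit.app (piFppf F))) := by
  obtain ⟨S, F₁, e₁, e₂, e₃, hS, hg, hf⟩ := exists_short p F
  letI := HasDerivedCategory.standard (AbFp X)
  letI := HasDerivedCategory.standard (BigSite.Ab Scheme.etalePrecoverage X)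
  obtain ⟨δ, w₁, w₂, w₃, -, h₂, h₃⟩ := TriCat.exists_rightDerived_ses (epsX X) hS m
  have hδ : δ = 0 := by
    rcases m with _ | k
    · haveI := hg
      have hn : ((epsX X).rightDerived 0).map S.g ≫ (epsX X).rightDerivedZeroIsoSelf.hom.app S.X₃ =
          (epsX X).rightDerivedZeroIsoSelf.hom.app S.X₂ ≫ (epsX X).map S.g :=
        (epsX X).rightDerivedZeroIsoSelf.hom.naturality S.g
      haveI : Epi (((epsX X).rightDerived 0).map S.g) := by
        have : ((epsX X).rightDerived 0).map S.g = (epsX X).rightDerivedZeroIsoSelf.hom.app S.X₂ ≫ (epsX X).map S.g ≫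
            inv ((epsX X).rightDerivedZeroIsoSelf.hom.app S.X₃) := by
          rw [← Category.assoc, ← hn, Category.assoc, IsIso.hom_inv_id, Category.comp_id]
        rw [this]; infer_instance
      exact (cancel_epi (((epsX X).rightDerived 0).map S.g)).1 (by rw [comp_zero]; exact w₂)
    · exact ((isZero_rightDerived_piFppf (ih k k.lt_succ_self F₁)).of_iso
        (((epsX X).rightDerived (k + 1)).mapIso e₃).symm).eq_of_src _ _
  haveI : Mono (((epsX X).rightDerived (m + 1)).map S.f) := h₃.mono_g hδ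
  have h : (BigSite.bigAdj Scheme.fppfPrecoverage p AddCommGrpCat.{u + 1}).unit.app (piFppf F) = e₁.inv ≫ S.f ≫ e₂.hom := by
    rw [hf]; simp
  rw [h, Functor.map_comp, Functor.map_comp]
  infer_instance

/-- The functor `p_* p⁻¹` on fppf sheaves. -/
noncomputable abbrev pp {Y : Scheme.{u}} (p : Y ⟶ X) : AbFp X ⥤ AbFp X :=
  BigSite.pullBig Scheme.fppfPrecoverage p AddCommGrpCat.{u + 1} ⋙ BigSite.pushBig Scheme.fppfPrecoverage p AddCommGrpCat.{u + 1}

/-- Cocycles which become coboundaries on a finite surjective cover are locally coboundaries. -/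
theorem boundary_of_finite (m : ℕ) (ih : ∀ k < m, ∀ (X : Scheme.{u}) (F : EtCoh.Ab X), Acy k X F)
    {Y : Scheme.{u}} (p : Y ⟶ X) [IsFinite p] [Surjective p] {F : EtCoh.Ab X} (I : InjectiveResolution (piFppf F))
    (U : Over X) (x : (I.cocomplex.X (m + 1)).obj.obj (op U)) (hx : (I.cocomplex.d (m + 1) (m + 2)).hom.app (op U) x = 0)
    (y : (I.cocomplex.X m).obj.obj (op ((Over.map p).obj ((Over.pullback p).obj U))))
    (hy : (I.cocomplex.d m (m + 1)).hom.app _ y = (I.cocomplex.X (m + 1)).obj.map ((Over.mapPullbackAdj p).counit.app U).op x) :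
    Presheaf.imageSieve (I.cocomplex.d m (m + 1)).hom x ∈ QuotSh.J Scheme.etalePrecoverage X U := by
  let Φ := pp p
  haveI : (BigSite.pushBig Scheme.fppfPrecoverage p AddCommGrpCat.{u + 1}).IsRightAdjoint :=
    (BigSite.bigAdj Scheme.fppfPrecoverage p AddCommGrpCat.{u + 1}).isRightAdjoint
  haveI : PreservesFiniteLimits Φ := comp_preservesFiniteLimits _ _
  let u₀ := (BigSite.bigAdj Scheme.fppfPrecoverage p AddCommGrpCat.{u + 1}).unit
  let j := u₀.app (piFppf F)
  let J := injectiveResolution (Φ.obj (piFppf F))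
  let φ := InjectiveResolution.desc j J I
  let K := (Φ.mapHomologicalComplex (ComplexShape.up ℕ)).obj I.cocomplex
  let iI : piFppf F ⟶ I.cocomplex.X 0 := I.ι.f 0
  let η : I.cocomplex ⟶ K :=
    { f := fun i => u₀.app (I.cocomplex.X i), comm' := fun i k _ => (u₀.naturality (I.cocomplex.d i k)).symm }
  have hιd : Φ.map iI ≫ K.d 0 1 = 0 :=
    (Φ.map_comp iI (I.cocomplex.d 0 1)).symm.trans ((congrArg Φ.map I.ι_f_zero_comp_complex_d).trans (Φ.map_zero _ _))
  have hK : ∀ k, k < m → (scAt K k).Exact := fun k hk => by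
    refine exact_of_eps ?_
    have h := exact_map_pushBig p (ih k hk Y _ (pullRes p I))
    exact h
  have h₀ : (ShortComplex.mk (Φ.map iI) (K.d 0 1) hιd).Exact :=
    ShortComplex.exact_of_f_is_kernel _ (KernelFork.mapIsLimit _ I.isLimitKernelFork Φ)
  haveI : Mono iI := inferInstanceAs (Mono (I.ι.f 0))
  let g₁ : I.cocomplex.X (m + 1) ⊞ K.X m ⟶ I.cocomplex.X (m + 2) := biprod.fst ≫ I.cocomplex.d (m + 1) (m + 2)
  let g₂ : kernel g₁ ⟶ K.X (m + 1) := kernel.ι g₁ ≫ (biprod.fst ≫ η.f (m + 1) - biprod.snd ≫ K.d m (m + 1))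
  let sA : kernel g₂ ⟶ I.cocomplex.X (m + 1) := kernel.ι g₂ ≫ kernel.ι g₁ ≫ biprod.fst
  let tA : kernel g₂ ⟶ K.X m := kernel.ι g₂ ≫ kernel.ι g₁ ≫ biprod.snd
  have hs : sA ≫ I.cocomplex.d (m + 1) (m + 2) = 0 := by
    simp only [sA, Category.assoc]
    rw [show kernel.ι g₁ ≫ biprod.fst ≫ I.cocomplex.d (m + 1) (m + 2) = 0 from kernel.condition g₁, comp_zero]
  have ht : sA ≫ η.f (m + 1) = tA ≫ K.d m (m + 1) := by
    have h := kernel.condition g₂
    simp only [g₂, Preadditive.comp_sub, sub_eq_zero] at h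
    simpa only [sA, tA, Category.assoc] using h
  let ιK : Φ.obj (piFppf F) ⟶ K.X 0 := Φ.map iI
  haveI : Mono ιK := Φ.map_mono iI
  obtain ⟨r, hr⟩ := exists_coboundary I J j φ (InjectiveResolution.desc_commutes_zero _ _ _) K ιK η
    (u₀.naturality iI) hιd h₀ m hK sA hs tA ht
  let ε := epsX X
  haveI := mono_rightDerived_unit p F m fun k hk => ih k hk X
  haveI hmono : Mono ((ε.mapHomologicalComplex (ComplexShape.up ℕ) ⋙ HomologicalComplex.homologyFunctor _ _ (m + 1)).map φ) := by
    have h := InjectiveResolution.isoRightDerivedObj_hom_naturality j I J φ (InjectiveResolution.desc_commutes_zero _ _ _) ε (m + 1)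
    have h' : (ε.mapHomologicalComplex (ComplexShape.up ℕ) ⋙ HomologicalComplex.homologyFunctor _ _ (m + 1)).map φ =
        (I.isoRightDerivedObj ε (m + 1)).inv ≫ (ε.rightDerived (m + 1)).map j ≫ (J.isoRightDerivedObj ε (m + 1)).hom := by
      rw [h, Iso.inv_hom_id_assoc]
    rw [h']; infer_instance
  let εI := (ε.mapHomologicalComplex (ComplexShape.up ℕ)).obj I.cocomplex
  let εJ := (ε.mapHomologicalComplex (ComplexShape.up ℕ)).obj J.cocomplex
  let εφ : εI ⟶ εJ := (ε.mapHomologicalComplex (ComplexShape.up ℕ)).map φ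
  have hs' : ε.map sA ≫ εI.d (m + 1) (m + 2) = 0 :=
    (ε.map_comp _ _).symm.trans ((congrArg ε.map hs).trans (ε.map_zero _ _))
  have hzero : εI.liftCycles (ε.map sA) (m + 2) (by simp) hs' ≫ εI.homologyπ (m + 1) = 0 := by
    haveI : Mono (HomologicalComplex.homologyMap εφ (m + 1)) := hmono
    refine (cancel_mono (HomologicalComplex.homologyMap εφ (m + 1))).1 ?_
    rw [zero_comp, Category.assoc, HomologicalComplex.homologyπ_naturality, ← Category.assoc,
      HomologicalComplex.liftCycles_comp_cyclesMap]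
    refine (εJ.liftCycles_comp_homologyπ_eq_zero_iff_up_to_refinements m (m + 1) (m + 2) (by simp) (by simp) _ _).2
      ⟨_, 𝟙 _, inferInstance, ε.map r, ?_⟩
    rw [Category.id_comp]
    exact ((ε.map_comp _ _).symm.trans (congrArg ε.map hr)).trans (ε.map_comp _ _)
  obtain ⟨A', π, hπ, w, hw⟩ :=
    (εI.liftCycles_comp_homologyπ_eq_zero_iff_up_to_refinements m (m + 1) (m + 2) (by simp) (by simp) _ hs').1 hzero
  let b : (I.cocomplex.X (m + 1) ⊞ K.X m).obj.obj (op U) :=
    (biprod.inl : _ ⟶ I.cocomplex.X (m + 1) ⊞ K.X m).hom.app (op U) x + (biprod.inr : _ ⟶ I.cocomplex.X (m + 1) ⊞ K.X m).hom.app (op U) y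
  have happ : ∀ {A B D : AbFp X} (f : A ⟶ B) (g : B ⟶ D) (a : A.obj.obj (op U)),
      g.hom.app (op U) (f.hom.app (op U) a) = (f ≫ g).hom.app (op U) a := fun f g a =>
    (ConcreteCategory.comp_apply _ _ a).symm
  have hb₁ : (biprod.fst : I.cocomplex.X (m + 1) ⊞ K.X m ⟶ _).hom.app (op U) b = x := by
    simp only [b, map_add, happ, biprod.inl_fst, biprod.inr_fst]
    exact add_zero x
  have hb₂ : (biprod.snd : I.cocomplex.X (m + 1) ⊞ K.X m ⟶ _).hom.app (op U) b = y := by
    simp only [b, map_add, happ, biprod.inl_snd, biprod.inr_snd]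
    exact zero_add y
  obtain ⟨c, hc⟩ := exists_kernel_section g₁ b ((happ _ _ b).symm.trans ((congrArg _ hb₁).trans hx))
  obtain ⟨a, ha⟩ := exists_kernel_section g₂ c (by
    refine (happ _ _ c).symm.trans ((congrArg _ hc).trans ?_)
    show (biprod.fst ≫ η.f (m + 1)).hom.app (op U) b - (biprod.snd ≫ K.d m (m + 1)).hom.app (op U) b = 0
    rw [← happ, ← happ, hb₁, hb₂]
    exact sub_eq_zero.2 hy.symm)
  have hsa : sA.hom.app (op U) a = x := by
    simp only [sA, ← happ]
    rw [ha, hc, hb₁]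
  haveI := (Sheaf.isLocallySurjective_iff_epi' AddCommGrpCat.{u + 1} π).2 hπ
  refine GrothendieckTopology.superset_covering _ ?_ (Presheaf.imageSieve_mem (QuotSh.J Scheme.etalePrecoverage X) π.hom a)
  rintro V k ⟨a', ha'⟩
  refine ⟨w.hom.app (op V) a', ?_⟩
  have h1 : (εI.d m (m + 1)).hom.app (op V) (w.hom.app (op V) a') = (ε.map sA).hom.app (op V) (π.hom.app (op V) a') :=
    ((ConcreteCategory.comp_apply _ _ a').symm.trans (congrArg (fun t => t.hom.app (op V) a') hw.symm)).trans
      (ConcreteCategory.comp_apply _ _ a')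
  refine h1.trans ((congrArg _ ha').trans ?_)
  exact (ConcreteCategory.congr_hom (sA.hom.naturality k.op) a).trans
    (congrArg ((I.cocomplex.X (m + 1)).obj.map k.op) hsa)

theorem acy (m : ℕ) : ∀ (X : Scheme.{u}) (F : EtCoh.Ab X), Acy m X F := by
  induction m using Nat.strong_induction_on with
  | _ m ih =>
  intro X F I
  refine exact_of_locally_boundary fun T x hx => ?_
  have hfl := locally_boundary (scAt_of_exactAt I.cocomplex m (RDer.res_exactAt_succ I.cocomplex I.ι m)) x hx
  haveI : Scheme.fppfPrecoverage.{u}.HasIsos :=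
    inferInstanceAs ((Scheme.precoverage (@Flat ⊓ @LocallyOfFinitePresentation)).HasIsos)
  obtain ⟨R₀, hR₀, hle⟩ := Precoverage.mem_toGrothendieck_iff_of_isStableUnderComposition.1
    ((GrothendieckTopology.mem_over_iff _ _).1 hfl)
  obtain ⟨E, rfl⟩ := (Precoverage.mem_iff_exists_zeroHypercover (J := Scheme.fppfPrecoverage)).1 hR₀
  have hE := (Scheme.presieve₀_mem_precoverage_iff E.toPreZeroHypercover).1 E.mem₀
  have hpt : ∀ t : T.left, ∃ (U U' : Scheme.{u}) (g : U ⟶ T.left) (p : U' ⟶ U) (i : E.I₀) (h : U' ⟶ E.X i),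
      Etale g ∧ t ∈ Set.range g ∧ IsFinite p ∧ Surjective p ∧ h ≫ E.f i = p ≫ g := fun t => by
    obtain ⟨i, w, hw⟩ := hE.1 t
    haveI : Flat (E.f i) := (hE.2 i).1
    haveI : LocallyOfFinitePresentation (E.f i) := (hE.2 i).2
    obtain ⟨U, U', g, p, h, h1, h2, h3, h4, h5⟩ := exists_etale_finite_refinement (E.f i) w
    exact ⟨U, U', g, p, i, h, h1, hw ▸ h2, h3, h4, h5⟩
  choose U U' g p i h hg hu hp hps hcomm using hpt
  let a := fun t => g t ≫ T.hom
  let o := fun t => (Over.map (a t)).obj (Over.mk (𝟙 (U t)))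
  let k : ∀ t, o t ⟶ T := fun t => Over.homMk (g t) (Category.id_comp _).symm
  refine GrothendieckTopology.transitive _ (EtInd.ofArrows_mem_et o k hg fun t => ⟨t, hu t⟩) _ ?_
  rintro Z f ⟨_, c, _, ⟨t⟩, rfl⟩
  rw [Sieve.pullback_comp]
  refine GrothendieckTopology.pullback_stable _ c ?_
  haveI := hp t
  haveI := hps t
  let x' : (I.cocomplex.X (m + 1)).obj.obj (op (o t)) := (I.cocomplex.X (m + 1)).obj.map (k t).op x
  let W := (Over.map (a t)).obj ((Over.map (p t)).obj ((Over.pullback (p t)).obj (Over.mk (𝟙 (U t)))))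
  let cc : W ⟶ o t := (Over.map (a t)).map ((Over.mapPullbackAdj (p t)).counit.app _)
  have hmem : Presheaf.imageSieve (I.cocomplex.d m (m + 1)).hom x (cc ≫ k t) := by
    have h0 := (Sieve.overEquiv_iff _ (E.f (i t))).1 (hle _ _ (Presieve.ofArrows.mk (i t)))
    have hW : cc ≫ k t = Over.homMk (pullback.snd (𝟙 (U t)) (p t) ≫ h t) (by
        show (pullback.snd (𝟙 (U t)) (p t) ≫ h t) ≫ E.f (i t) ≫ T.hom = W.hom
        rw [Category.assoc, ← Category.assoc (h t), hcomm t]
        exact (Category.assoc _ _ _).symm) ≫ (Over.homMk (E.f (i t)) : Over.mk (E.f (i t) ≫ T.hom) ⟶ T) :=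
      Over.OverMorphism.ext (by
        show pullback.fst (𝟙 (U t)) (p t) ≫ g t = (pullback.snd (𝟙 (U t)) (p t) ≫ h t) ≫ E.f (i t)
        rw [Category.assoc, hcomm t, ← Category.assoc, ← pullback.condition, Category.comp_id])
    rw [hW]
    exact Sieve.downward_closed _ h0 _
  obtain ⟨y, hy⟩ := hmem
  have hnat : ∀ {q q' : ℕ} {V V' : Over X} (f : V ⟶ V') (z : (I.cocomplex.X q).obj.obj (op V')),
      (I.cocomplex.d q q').hom.app (op V) ((I.cocomplex.X q).obj.map f.op z) =
        (I.cocomplex.X q').obj.map f.op ((I.cocomplex.d q q').hom.app (op V') z) := fun f z =>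
    ConcreteCategory.congr_hom ((I.cocomplex.d _ _).hom.naturality f.op) z
  have hres := boundary_of_finite m ih (p t) (pullRes (a t) I) (Over.mk (𝟙 (U t))) x'
    ((hnat (k t) x).trans ((congrArg _ hx).trans (map_zero _))) y (hy.trans (by
      exact (EtInd.mapP (P := (I.cocomplex.X (m + 1)).obj ⋙ forget _) cc (k t) x).symm))
  rw [GrothendieckTopology.mem_over_iff] at hres ⊢
  refine GrothendieckTopology.superset_covering _ ?_ hres
  intro Z' f' hf'
  obtain ⟨z, hz⟩ := (Sieve.overEquiv_iff (Y := Over.mk (𝟙 (U t))) _ f').1 hf'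
  refine (Sieve.overEquiv_iff _ f').2 ?_
  let e : Over.mk (f' ≫ (o t).hom) ⟶ (Over.map (a t)).obj (Over.mk (f' ≫ 𝟙 (U t))) :=
    Over.homMk (𝟙 _) ((Category.id_comp _).trans (Category.assoc _ _ _))
  have hf : (Over.homMk f' : Over.mk (f' ≫ (o t).hom) ⟶ o t) =
      e ≫ (Over.map (a t)).map (Over.homMk f' : Over.mk (f' ≫ 𝟙 (U t)) ⟶ Over.mk (𝟙 (U t))) :=
    Over.OverMorphism.ext (Category.id_comp _).symm
  rw [hf]
  refine Sieve.downward_closed _ ?_ _
  show Presheaf.imageSieve (I.cocomplex.d m (m + 1)).hom x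
    ((Over.map (a t)).map (Over.homMk f' : Over.mk (f' ≫ 𝟙 (U t)) ⟶ Over.mk (𝟙 (U t))) ≫ k t)
  exact ⟨z, hz.trans (EtInd.mapP (P := (I.cocomplex.X (m + 1)).obj ⋙ forget _) _ (k t) x)⟩

end Groth.Agent.BigSiteLib.FppfDesc
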